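import Mathlib
import Cfsg.Agent.Lib.Coprime.Basic

/-!
# Elements of prime power order in solvable transitive groups

A `p`-element acting nontrivially in a solvable transitive group puts into the number of points
either `p` or a prime power congruent to one modulo `p`.
-/

set_option linter.style.haveILetI false
set_option linter.unusedSectionVars false

namespace Cfsg.Agent.BlocksChars.Winter

open scoped commutatorElement

universe u

/-- A prime power congruent to one or minus one modulo `p` divides `n`, or `p` does. -/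
def Good (p n : ℕ) : Prop :=
  p ∣ n ∨ ∃ q i : ℕ, q.Prime ∧ 0 < i ∧ q ^ i ∣ n ∧
    (((q ^ i : ℕ) : ℤ) ≡ -1 [ZMOD p] ∨ ((q ^ i : ℕ) : ℤ) ≡ 1 [ZMOD p])

theorem Good.mono {p m n : ℕ} (h : Good p m) (hmn : m ∣ n) : Good p n :=
  h.imp (fun h => h.trans hmn) fun ⟨q, i, hq, hi, hd, hc⟩ => ⟨q, i, hq, hi, hd.trans hmn, hc⟩

variable {p : ℕ}

/-- The fixed points of a map of `p`-power order. -/
theorem card_fixed_modEq (hp : p.Prime) {α : Type*} [Finite α] (σ : Equiv.Perm α) {k : ℕ}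
    (hσ : σ ^ p ^ k = 1) : Nat.card α ≡ Nat.card {a : α // σ a = a} [MOD p] := by
  haveI := Fact.mk hp
  obtain ⟨i, -, hi⟩ := (Nat.dvd_prime_pow hp).1 (orderOf_dvd_of_pow_eq_one hσ)
  have hP : IsPGroup p (Subgroup.zpowers σ) :=
    IsPGroup.of_card (n := i) (by rw [Nat.card_zpowers, hi])
  rw [show Nat.card {a : α // σ a = a} =
    Nat.card (MulAction.fixedPoints (Subgroup.zpowers σ) α) from Nat.card_congr ?_]
  · exact hP.card_modEq_card_fixedPoints α
  refine Equiv.subtypeEquivRight fun a => ⟨fun h g => ?_, fun h => h ⟨σ, Subgroup.mem_zpowers σ⟩⟩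
  obtain ⟨g, hg⟩ := g
  obtain ⟨j, rfl⟩ := Subgroup.mem_zpowers_iff.1 hg
  exact Function.IsFixedPt.perm_zpow h j

/-- A nontrivial automorphism of `p`-power order of a group of prime power order. -/
theorem exists_pow_modEq_one (hp : p.Prime) {q e : ℕ} (hq : q.Prime) (hqp : q ≠ p) {V : Type*}
    [Group V] [Finite V] (hV : Nat.card V = q ^ e) (σ : MulAut V) {k : ℕ} (hσ : σ ^ p ^ k = 1)
    (hne : σ ≠ 1) : ∃ i : ℕ, 0 < i ∧ q ^ i ∣ q ^ e ∧ q ^ i ≡ 1 [MOD p] := by
  set F : Subgroup V := σ.toMonoidHom.eqLocus (MonoidHom.id V)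
  have hF : F ≠ ⊤ := fun h => hne (MulEquiv.ext fun v =>
    (h.symm ▸ Subgroup.mem_top v : v ∈ F))
  obtain ⟨f, hfe, hf⟩ := (Nat.dvd_prime_pow hq).1 (hV ▸ F.card_subgroup_dvd_card)
  have hlt : f < e := lt_of_le_of_ne hfe fun h => hF (Subgroup.eq_top_of_card_eq F (by
    rw [hf, h, hV]))
  have h := card_fixed_modEq hp (MulAut.toPerm V σ) (k := k) (by rw [← map_pow, hσ, map_one])
  rw [hV, show Nat.card {a : V // MulAut.toPerm V σ a = a} = Nat.card F from rfl, hf] at h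
  refine ⟨e - f, by omega, pow_dvd_pow q (Nat.sub_le _ _), ?_⟩
  refine Nat.ModEq.cancel_left_of_coprime (c := q ^ f) ?_ ?_
  · exact Nat.Coprime.pow_right _ ((Nat.coprime_primes hp hq).2 hqp.symm)
  · rw [← pow_add, show f + (e - f) = e by omega, mul_one]
    exact h

variable {G : Type u} [Group G] [Finite G]

theorem relIndex_sup_left (H N : Subgroup G) [N.Normal] :
    H.relIndex (H ⊔ N) = H.relIndex N := by
  have h1 := Subgroup.relIndex_mul_relIndex (H ⊓ N) H (H ⊔ N) inf_le_left le_sup_left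
  have h2 := Subgroup.relIndex_mul_relIndex (H ⊓ N) N (H ⊔ N) inf_le_right le_sup_right
  rw [Subgroup.inf_relIndex_left] at h1
  rw [Subgroup.inf_relIndex_right, Subgroup.relIndex_sup_right] at h2
  rw [← h2, mul_comm (H.relIndex N)] at h1
  exact Nat.eq_of_mul_eq_mul_left
    (Nat.pos_of_ne_zero (Subgroup.index_ne_zero_of_finite (H := N.subgroupOf H))) h1

/-- In a solvable group, a `p`-element outside the core of a subgroup makes the index good. -/
theorem index_good [Group.IsSolvable G] (hp : p.Prime) : ∀ (H : Subgroup G) (x : G) (k : ℕ),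
    x ^ p ^ k = 1 → x ∉ H.normalCore → Good p H.index := by
  suffices h : ∀ t, ∀ (H : Subgroup G) (x : G) (k : ℕ), H.index = t → x ^ p ^ k = 1 →
      x ∉ H.normalCore → Good p H.index from fun H x k => h _ H x k rfl
  intro t
  induction t using Nat.strong_induction_on with
  | _ t ih =>
  intro H x k ht hxk hx
  set C := H.normalCore with hC
  obtain ⟨N, -, ⟨hNn, hNC⟩, hmin⟩ := Set.Finite.exists_le_minimal
    (Set.toFinite {N : Subgroup G | N.Normal ∧ ¬ N ≤ C}) (a := ⊤)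
    ⟨inferInstance, fun h => hx (h (Subgroup.mem_top x))⟩
  haveI := hNn
  have hsmall : ∀ N' : Subgroup G, N'.Normal → N' < N → N' ≤ C := fun N' h1 h2 =>
    by_contra fun h3 => h2.not_ge (hmin ⟨h1, h3⟩ h2.le)
  have hcomm : ⁅N, N⁆ ≤ C := hsmall _ inferInstance
    (Coprime.commutator_lt_of_isSolvable inferInstance fun h => hNC (h ▸ bot_le))
  set L := H ⊔ N with hL
  have hHL : H.relIndex L * L.index = H.index :=
    Subgroup.relIndex_mul_index le_sup_left
  have hNH : ¬ N ≤ H := fun h => hNC (Subgroup.normal_le_normalCore.2 h)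
  have hlt : L.index < t := by
    subst ht
    refine lt_of_le_of_ne (Nat.le_of_dvd (Nat.pos_of_ne_zero Subgroup.index_ne_zero_of_finite)
      (Subgroup.index_dvd_of_le le_sup_left)) fun he => ?_
    rw [he] at hHL
    have h1 : H.relIndex L = 1 :=
      Nat.eq_of_mul_eq_mul_right (Nat.pos_of_ne_zero Subgroup.index_ne_zero_of_finite)
        (hHL.trans (one_mul _).symm)
    exact hNH (le_sup_right.trans (Subgroup.relIndex_eq_one.1 h1))
  by_cases hxL : x ∈ L.normalCore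
  swap
  · exact (ih _ hlt L x k rfl hxk hxL).mono (Subgroup.index_dvd_of_le le_sup_left)
  refine Good.mono ?_ (⟨_, hHL.symm⟩ : H.relIndex L ∣ H.index)
  rw [hL, relIndex_sup_left]
  -- a conjugate of `x` outside `H`
  obtain ⟨g, hg⟩ : ∃ g : G, g * x * g⁻¹ ∉ H := by
    by_contra h
    push Not at h
    exact hx h
  set y := g * x * g⁻¹ with hy
  have hyL : y ∈ H ⊔ N := hxL g
  have hyk : y ^ p ^ k = 1 := by rw [hy, conj_pow, hxk, mul_one, mul_inv_cancel]
  obtain ⟨h₀, hh₀, n₀, hn₀, hyhn⟩ := Subgroup.mem_sup_of_normal_right.1 hyL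
  -- the exponent of `N` modulo the core
  have hCN : ∀ a ∈ N, ∀ b ∈ N, ⁅a, b⁆ ∈ C := fun a ha b hb =>
    hcomm (Subgroup.commutator_mem_commutator ha hb)
  haveI : (C.subgroupOf N).Normal := inferInstance
  obtain ⟨q, hq, hqd⟩ := Nat.exists_prime_and_dvd (n := C.relIndex N) fun h =>
    hNC (Subgroup.relIndex_eq_one.1 h)
  haveI := Fact.mk hq
  set f := QuotientGroup.mk' C
  have hfcomm : ∀ a ∈ N, ∀ b ∈ N, Commute (f a) (f b) := fun a ha b hb => by
    rw [commute_iff_eq, ← commutatorElement_eq_one_iff_mul_comm, ← map_commutatorElement]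
    exact (QuotientGroup.eq_one_iff _).2 (hCN a ha b hb)
  let Nq : Subgroup G :=
    { carrier := {a | a ∈ N ∧ a ^ q ∈ C}
      one_mem' := ⟨one_mem _, by simp⟩
      mul_mem' := fun {a b} ha hb => ⟨mul_mem ha.1 hb.1, by
        have e : f ((a * b) ^ q) = 1 := by
          rw [map_pow, map_mul, (hfcomm a ha.1 b hb.1).mul_pow, ← map_pow, ← map_pow,
            show f (a ^ q) = 1 from (QuotientGroup.eq_one_iff _).2 ha.2,
            show f (b ^ q) = 1 from (QuotientGroup.eq_one_iff _).2 hb.2, one_mul]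
        exact (QuotientGroup.eq_one_iff _).1 e⟩
      inv_mem' := fun {a} ha => ⟨inv_mem ha.1, by rw [inv_pow]; exact inv_mem ha.2⟩ }
  have hNq : Nq.Normal := ⟨fun a ha c => ⟨hNn.conj_mem a ha.1 c, by
    rw [conj_pow]
    exact (inferInstance : C.Normal).conj_mem _ ha.2 c⟩⟩
  have hNqtop : ∀ a ∈ N, a ^ q ∈ C := by
    by_contra hne
    push Not at hne
    obtain ⟨a, ha, ha'⟩ := hne
    have hle : Nq ≤ C := hsmall Nq hNq
      (lt_of_le_of_ne (fun b hb => hb.1) fun he => ha' ((he.symm.le ha : a ∈ Nq).2))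
    obtain ⟨z, hz⟩ := exists_prime_orderOf_dvd_card' (G := N ⧸ C.subgroupOf N) q
      (by rwa [← Subgroup.index_eq_card])
    obtain ⟨b, rfl⟩ := QuotientGroup.mk_surjective z
    have hb : (b : G) ^ q ∈ C := by
      have := pow_orderOf_eq_one (QuotientGroup.mk b : N ⧸ C.subgroupOf N)
      rw [hz, ← QuotientGroup.mk_pow, QuotientGroup.eq_one_iff] at this
      exact this
    have h1 : b ∈ C.subgroupOf N := hle ⟨b.2, hb⟩
    rw [(QuotientGroup.eq_one_iff b).2 h1, orderOf_one] at hz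
    exact hq.one_lt.ne hz
  -- the pieces below `N`
  set W := H ⊓ N with hW
  have hCH : C ≤ H := H.normalCore_le
  have hWn : ∀ a ∈ N, ∀ w ∈ W, a * w * a⁻¹ ∈ W := fun a ha w hw => by
    refine ⟨?_, hNn.conj_mem w hw.2 a⟩
    rw [show a * w * a⁻¹ = ⁅a, w⁆ * w by rw [commutatorElement_def]; group]
    exact mul_mem (hCH (hCN a ha w hw.2)) hw.1
  set K := Subgroup.normalizer (W : Set G)
  have hNK : N ≤ K := fun a ha => Subgroup.mem_normalizer_iff.2 fun w => ⟨hWn a ha w, fun h => by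
    simpa [mul_assoc] using hWn a⁻¹ (inv_mem ha) _ h⟩
  have hh₀K : h₀ ∈ K := by
    have : ∀ c ∈ H, ∀ w ∈ W, c * w * c⁻¹ ∈ W := fun c hc w hw =>
      ⟨H.mul_mem (H.mul_mem hc hw.1) (H.inv_mem hc), hNn.conj_mem w hw.2 c⟩
    exact Subgroup.mem_normalizer_iff.2 fun w => ⟨this h₀ hh₀ w, fun h => by
      simpa [mul_assoc] using this h₀⁻¹ (inv_mem hh₀) _ h⟩
  have hyK : y ∈ K := hyhn ▸ mul_mem hh₀K (hNK hn₀)
  haveI : (W.subgroupOf K).Normal := Subgroup.normal_in_normalizer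
  set π := QuotientGroup.mk' (W.subgroupOf K)
  set V := (N.subgroupOf K).map π with hV
  haveI : V.Normal := Subgroup.Normal.map inferInstance _ (QuotientGroup.mk'_surjective _)
  have hVcard : Nat.card V = H.relIndex N := by
    rw [hV, ← Subgroup.relIndex_ker (N.subgroupOf K) π, QuotientGroup.ker_mk', Subgroup.relIndex_subgroupOf hNK,
      hW, Subgroup.inf_relIndex_right]
  have hVq : IsPGroup q V := by
    rintro ⟨v, hv⟩
    obtain ⟨a, ha, rfl⟩ := hv
    refine ⟨1, Subtype.ext ?_⟩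
    show π a ^ q ^ 1 = 1
    rw [pow_one, ← map_pow]
    exact (QuotientGroup.eq_one_iff _).2 ⟨hCH (hNqtop _ ha), pow_mem ha q⟩
  obtain ⟨e, he⟩ := hVq.exists_card_eq
  rcases eq_or_ne q p with rfl | hqp
  · left
    rw [← hVcard, he]
    refine dvd_pow_self q fun h0 => hNH (Subgroup.relIndex_eq_one.1 ?_)
    rw [← hVcard, he, h0, pow_zero]
  set σ : MulAut V := MulAut.conjNormal (π ⟨y, hyK⟩)
  have hπyk : π ⟨y, hyK⟩ ^ p ^ k = 1 := by
    rw [← map_pow, show (⟨y, hyK⟩ : K) ^ p ^ k = 1 from Subtype.ext hyk, map_one]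
  have hne : σ ≠ 1 := by
    intro hσ
    have hc : Commute (π ⟨y, hyK⟩) (π ⟨n₀, hNK hn₀⟩) := by
      have := congrArg Subtype.val
        (DFunLike.congr_fun hσ ⟨π ⟨n₀, hNK hn₀⟩, Subgroup.mem_map_of_mem π hn₀⟩)
      rw [MulAut.conjNormal_apply, mul_inv_eq_iff_eq_mul] at this
      exact this
    have hh : π ⟨y, hyK⟩ * (π ⟨n₀, hNK hn₀⟩)⁻¹ = π ⟨h₀, hh₀K⟩ := by
      rw [← map_inv, ← map_mul]
      congr 1
      exact Subtype.ext (by simp [← hyhn])
    have h1 : (π ⟨h₀, hh₀K⟩) ^ p ^ k = ((π ⟨n₀, hNK hn₀⟩) ^ p ^ k)⁻¹ := by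
      rw [← hh, hc.inv_right.mul_pow, hπyk, one_mul, inv_pow]
    rw [eq_inv_iff_mul_eq_one, ← map_pow, ← map_pow, ← map_mul] at h1
    have h2 : h₀ ^ p ^ k * n₀ ^ p ^ k ∈ W := (QuotientGroup.eq_one_iff (N := W.subgroupOf K) _).1 h1
    have h3 : n₀ ^ p ^ k ∈ H := (mul_mem_cancel_left (pow_mem hh₀ _)).1 h2.1
    have h4 : n₀ ^ q ∈ H := hCH (hNqtop _ hn₀)
    refine hg ?_
    have h5 : n₀ ∈ H := by
      obtain ⟨a, b, hab⟩ := Nat.isCoprime_iff_coprime.2
        (Nat.Coprime.pow_left k ((Nat.coprime_primes hp hq).2 hqp.symm) : (p ^ k).Coprime q)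
      have e : n₀ = (n₀ ^ p ^ k) ^ a * (n₀ ^ q) ^ b := by
        rw [← zpow_natCast, ← zpow_natCast n₀ q, ← zpow_mul, ← zpow_mul, ← zpow_add,
          mul_comm, mul_comm (q : ℤ), hab, zpow_one]
      rw [e]
      exact mul_mem (zpow_mem h3 a) (zpow_mem h4 b)
    rw [← hyhn]
    exact mul_mem hh₀ h5
  obtain ⟨i, hi, hid, hmod⟩ := exists_pow_modEq_one hp hq hqp he σ
    (k := k) (by rw [← map_pow, hπyk, map_one]) hne
  refine Or.inr ⟨q, i, hq, hi, hVcard ▸ he ▸ hid, Or.inr ?_⟩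
  exact_mod_cast Int.natCast_modEq_iff.2 hmod

end Cfsg.Agent.BlocksChars.Winter
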