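import Mathlib
import Cfsg.Agent.Lib.Characters.Inner
import Cfsg.Agent.Lib.Characters.Schur
import Cfsg.Agent.Lib.Characters.Induction
import Cfsg.Agent.Lib.CharTheory.Ito
import Cfsg.Agent.BlocksChars.Degrees
import Cfsg.Agent.BlocksChars.Winter.Orbit

/-!
# Irreducible characters of groups of class two under a coprime automorphism

The degree squared is the index of the radical of the commutator pairing; a `p`-automorphism
fixing the commutators and moving something modulo the radical makes the degree good.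
-/

set_option linter.style.haveILetI false
set_option linter.unusedSectionVars false

namespace Cfsg.Agent.BlocksChars.Winter

open Cfsg.Agent.Characters
open scoped ComplexConjugate commutatorElement

universe u

variable {R : Type u} [Group R] [Finite R] {θ : R → ℂ}

/-- The scalar of an element. -/
noncomputable def scal (θ : R → ℂ) (r : R) : ℂ := θ r / θ 1

theorem scal_one (hθ : Cfsg.IsIrrCharacter R θ) : scal θ 1 = 1 :=
  div_self (irr_one_ne_zero hθ)

/-- An element commuting up to elements of scalar one acts as a scalar. -/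
theorem mul_scalar (hθ : Cfsg.IsIrrCharacter R θ) {r : R}
    (hr : ∀ g : R, ⁅g, r⁆ ∈ Subgroup.center R ∧ scal θ ⁅g, r⁆ = 1) (x : R) :
    θ (x * r) = scal θ r * θ x := by
  obtain ⟨d, ρ, hρ, rfl⟩ := hθ
  have hd : ρ.character 1 ≠ 0 := irr_one_ne_zero ⟨d, ρ, hρ, rfl⟩
  have htriv : ∀ g, ρ ⁅g, r⁆ = LinearMap.id := fun g => by
    obtain ⟨c, hc⟩ := schur_scalar ρ (ρ ⁅g, r⁆) fun h v => by
      rw [← Module.End.mul_apply, ← Module.End.mul_apply, ← map_mul, ← map_mul,
        Subgroup.mem_center_iff.1 (hr g).1 h]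
    have h1 : ρ.character ⁅g, r⁆ = c * ρ.character 1 := by
      simp [Representation.character, hc, Module.End.one_eq_id]
    have h2 : ρ.character ⁅g, r⁆ = ρ.character 1 := (div_eq_one_iff_eq hd).1 (hr g).2
    have hc1 : c = 1 := mul_right_cancel₀ hd (by rw [← h1, h2, one_mul])
    rw [hc, hc1, one_smul]
  obtain ⟨c, hc⟩ := schur_scalar ρ (ρ r) fun g v => by
    rw [← Module.End.mul_apply, ← Module.End.mul_apply, ← map_mul, ← map_mul,
      show g * r = ⁅g, r⁆ * (r * g) by rw [commutatorElement_def]; group, map_mul ρ ⁅g, r⁆, htriv]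
    rfl
  have hm : ∀ y, ρ.character (y * r) = c * ρ.character y := fun y => by
    simp [Representation.character, map_mul, hc, Module.End.mul_eq_comp]
  have h1 := hm 1
  rw [one_mul] at h1
  rw [hm, scal, h1, mul_div_cancel_right₀ _ hd]

theorem mul_center (hθ : Cfsg.IsIrrCharacter R θ) {c : R} (hc : c ∈ Subgroup.center R) (x : R) :
    θ (x * c) = scal θ c * θ x :=
  mul_scalar hθ (fun g => by
    rw [commutatorElement_eq_one_iff_mul_comm.2 (Subgroup.mem_center_iff.1 hc g)]
    exact ⟨one_mem _, scal_one hθ⟩) x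

theorem scal_mul (hθ : Cfsg.IsIrrCharacter R θ) {a b : R} (hb : b ∈ Subgroup.center R) :
    scal θ (a * b) = scal θ a * scal θ b := by
  rw [scal, mul_center hθ hb, scal, scal]
  ring

theorem scal_ne_zero (hθ : Cfsg.IsIrrCharacter R θ) {c : R} (hc : c ∈ Subgroup.center R) :
    scal θ c ≠ 0 := fun h => by
  have := scal_mul hθ (a := c⁻¹) hc
  rw [inv_mul_cancel, scal_one hθ, h, mul_zero] at this
  exact one_ne_zero this

/-- The commutator pairing. -/
noncomputable def om (θ : R → ℂ) (r s : R) : ℂ := scal θ ⁅r, s⁆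

variable (hθ : Cfsg.IsIrrCharacter R θ) (hcl : ∀ r s : R, ⁅r, s⁆ ∈ Subgroup.center R)

include hθ hcl in
theorem om_mul_left (a b s : R) : om θ (a * b) s = om θ a s * om θ b s := by
  have e : ⁅a * b, s⁆ = ⁅b, s⁆ * ⁅a, s⁆ := by
    calc ⁅a * b, s⁆ = a * ⁅b, s⁆ * a⁻¹ * ⁅a, s⁆ := by simp only [commutatorElement_def]; group
      _ = _ := by rw [Subgroup.mem_center_iff.1 (hcl b s) a, mul_inv_cancel_right]
  rw [om, e, scal_mul hθ (hcl a s), mul_comm]
  rfl

include hθ hcl in
theorem om_swap (r s : R) : om θ s r * om θ r s = 1 := by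
  rw [om, om, ← scal_mul hθ (hcl r s), ← commutatorElement_inv r s, inv_mul_cancel, scal_one hθ]

include hθ hcl in
theorem om_mul_right (r a b : R) : om θ r (a * b) = om θ r a * om θ r b := by
  have h := om_swap hθ hcl r (a * b)
  rw [om_mul_left hθ hcl] at h
  have h1 := om_swap hθ hcl r a
  have h2 := om_swap hθ hcl r b
  linear_combination (om θ r a * om θ r b) * h -
    om θ r (a * b) * (om θ b r * om θ r b) * h1 - om θ r (a * b) * h2

include hθ in
theorem om_one_left (s : R) : om θ 1 s = 1 := by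
  rw [om, commutatorElement_one_left, scal_one hθ]

include hθ in
theorem om_one_right (r : R) : om θ r 1 = 1 := by
  rw [om, commutatorElement_one_right, scal_one hθ]

include hθ hcl in
theorem om_pow_left (r s : R) (n : ℕ) : om θ (r ^ n) s = om θ r s ^ n := by
  induction n with
  | zero => rw [pow_zero, pow_zero, om_one_left hθ]
  | succ n ih => rw [pow_succ, pow_succ, om_mul_left hθ hcl, ih]

/-- The radical of the pairing. -/
noncomputable def rad : Subgroup R where
  carrier := {r | ∀ s, om θ r s = 1}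
  one_mem' := fun s => om_one_left hθ s
  mul_mem' := fun ha hb s => by rw [om_mul_left hθ hcl, ha s, hb s, mul_one]
  inv_mem' := fun {a} ha s => by
    have h := om_mul_left hθ hcl a⁻¹ a s
    rwa [inv_mul_cancel, om_one_left hθ, ha s, mul_one, eq_comm] at h

theorem mem_rad {r : R} : r ∈ rad hθ hcl ↔ ∀ s, om θ r s = 1 := Iff.rfl

theorem rad_normal : (rad hθ hcl).Normal := ⟨fun r hr g s => by
  have h := om_mul_left hθ hcl g g⁻¹ s
  rw [mul_inv_cancel, om_one_left hθ] at h
  rw [om_mul_left hθ hcl, om_mul_left hθ hcl, hr s, mul_one, ← h]⟩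

/-- Off the radical the character vanishes. -/
theorem eq_zero_of_notMem {r : R} (hr : r ∉ rad hθ hcl) : θ r = 0 := by
  rw [mem_rad] at hr
  push Not at hr
  obtain ⟨s, hs⟩ := hr
  by_contra h0
  refine hs ?_
  have h1 := char_isClassFunction (isCharacter_of_isIrr hθ) r s
  rw [show s * r * s⁻¹ = r * ⁅s, r⁆ by
    rw [Subgroup.mem_center_iff.1 (hcl s r) r, commutatorElement_def]; group,
    mul_center hθ (hcl s r)] at h1
  have h2 : om θ s r = 1 := mul_right_cancel₀ h0 (h1.trans (one_mul _).symm)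
  have h3 := om_swap hθ hcl r s
  rwa [h2, one_mul] at h3

/-- The squared degree is the index of the radical. -/
theorem card_eq [Fintype R] :
    (Nat.card R : ℂ) = (Nat.card (rad hθ hcl) : ℂ) * (θ 1 * θ 1) := by
  classical
  have hnorm : ∀ w ∈ rad hθ hcl, θ w * conj (θ w) = θ 1 * θ 1 := fun w hw => by
    have h := mul_scalar hθ (r := w) (fun g => ⟨hcl g w, by
      have h' := om_swap hθ hcl w g
      rwa [hw g, mul_one] at h'⟩) w⁻¹
    rw [inv_mul_cancel, char_inv (isCharacter_of_isIrr hθ)] at h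
    rw [scal] at h
    have hne := irr_one_ne_zero hθ
    field_simp at h
    linear_combination -h
  have h := classInner_isIrr_self hθ
  rw [classInner_def, inv_mul_eq_one₀ natCard_ne_zero] at h
  rw [h, ← Finset.sum_filter_add_sum_filter_not Finset.univ (· ∈ rad hθ hcl),
    Finset.sum_congr rfl (g := fun _ => θ 1 * θ 1)
      (fun w hw => hnorm w (Finset.mem_filter.1 hw).2),
    Finset.sum_eq_zero (s := Finset.univ.filter fun w => ¬ w ∈ rad hθ hcl)
      (fun w hw => by rw [eq_zero_of_notMem hθ hcl (Finset.mem_filter.1 hw).2, zero_mul]),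
    add_zero, Finset.sum_const, nsmul_eq_mul, ← Fintype.card_subtype,
    ← Nat.card_eq_fintype_card]

/-- The degree is good. -/
theorem degree_good {p q : ℕ} (hp : p.Prime) (hq : q.Prime) (hqp : q ≠ p) (hR : IsPGroup q R)
    (σ : MulAut R) {k : ℕ} (hσ : σ ^ p ^ k = 1) (hfix : ∀ r s : R, σ ⁅r, s⁆ = ⁅r, s⁆) {r₀ : R}
    (hr₀ : r₀⁻¹ * σ r₀ ∉ rad hθ hcl) : Good p (Cfsg.charDegree θ) := by
  classical
  haveI := Fintype.ofFinite R
  haveI := rad_normal hθ hcl
  haveI := Fact.mk hq
  set Z := rad hθ hcl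
  have hinv : ∀ r s, om θ (σ r) (σ s) = om θ r s := fun r s => by
    rw [om, ← map_commutatorElement, hfix]
    rfl
  have hσZ : ∀ r ∈ Z, σ r ∈ Z := fun r hr s => by
    obtain ⟨t, rfl⟩ := σ.surjective s
    rw [hinv]
    exact hr t
  have hZc : ∀ g s : R, ⁅g, s⁆ ∈ Z := fun g s t => by
    rw [om, commutatorElement_eq_one_iff_mul_comm.2
      (Subgroup.mem_center_iff.1 (hcl g s) t).symm, scal_one hθ]
  let H : Subgroup R :=
    { carrier := {r | r⁻¹ * σ r ∈ Z}
      one_mem' := by simp
      mul_mem' := fun {a b} ha hb => by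
        show (a * b)⁻¹ * σ (a * b) ∈ Z
        rw [map_mul, show (a * b)⁻¹ * (σ a * σ b) =
          b⁻¹ * (a⁻¹ * σ a) * b * (b⁻¹ * σ b) by group]
        exact mul_mem ((rad_normal hθ hcl).conj_mem' _ ha b) hb
      inv_mem' := fun {a} ha => by
        show a⁻¹⁻¹ * σ a⁻¹ ∈ Z
        rw [map_inv, show a⁻¹⁻¹ * (σ a)⁻¹ = a * (a⁻¹ * σ a)⁻¹ * a⁻¹ by group]
        exact (rad_normal hθ hcl).conj_mem _ (inv_mem ha) a }
  have hHtop : H ≠ ⊤ := fun h => hr₀ ((h.symm ▸ Subgroup.mem_top r₀ : r₀ ∈ H))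
  have hZH : Z ≤ H := fun r hr => mul_mem (inv_mem hr) (hσZ r hr)
  -- the pairing is nondegenerate on the fixed part
  have hrootR : ∀ r s : R, om θ r s ^ Nat.card R = 1 := fun r s => by
    rw [← om_pow_left hθ hcl, pow_card_eq_one', om_one_left hθ]
  have hperp : ∀ r ∈ H, (∀ h ∈ H, om θ r h = 1) → r ∈ Z := by
    intro r hr hrH s
    have hrσ : ∀ t, om θ (σ r) t = om θ r t := fun t => by
      rw [show σ r = r * (r⁻¹ * σ r) by group, om_mul_left hθ hcl, (show r⁻¹ * σ r ∈ Z from hr) t,
        mul_one]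
    have hshift : ∀ i : ℕ, om θ r ((σ ^ i) s) = om θ r s := fun i => by
      induction i with
      | zero => rw [pow_zero, MulAut.one_apply]
      | succ i ih => rw [pow_succ', MulAut.mul_apply, ← hrσ, hinv, ih]
    let T : ℕ → R := fun m => ((List.range m).map fun i => (σ ^ i) s).prod
    have hTsucc : ∀ m, T (m + 1) = T m * (σ ^ m) s := fun m => by
      simp [T, List.range_succ]
    have hTl : ∀ m u, om θ (T m) u = ∏ i ∈ Finset.range m, om θ ((σ ^ i) s) u := fun m u => by
      induction m with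
      | zero => simp [T, om_one_left hθ]
      | succ m ih => rw [hTsucc, om_mul_left hθ hcl, ih, Finset.prod_range_succ]
    have hTr : ∀ m, om θ r (T m) = om θ r s ^ m := fun m => by
      induction m with
      | zero => simp [T, om_one_right hθ]
      | succ m ih => rw [hTsucc, om_mul_right hθ hcl, ih, hshift, pow_succ]
    have hTH : T (p ^ k) ∈ H := fun u => by
      obtain ⟨v, rfl⟩ := σ.surjective u
      rw [om_mul_left hθ hcl, hinv, hTl, Finset.prod_congr rfl fun i _ =>
        (hinv ((σ ^ i) s) v).symm, ← mul_left_inj' (show om θ (T (p ^ k)) (σ v) ≠ 0 from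
          scal_ne_zero hθ (hcl _ _)), one_mul, mul_right_comm, ← om_mul_left hθ hcl,
        inv_mul_cancel, om_one_left hθ, one_mul, hTl]
      have e : ∀ i, σ ((σ ^ i) s) = (σ ^ (i + 1)) s := fun i => by
        rw [pow_succ', MulAut.mul_apply]
      simp only [e]
      have h1 := Finset.prod_range_succ' (fun i => om θ ((σ ^ i) s) (σ v)) (p ^ k)
      rw [Finset.prod_range_succ, hσ, pow_zero] at h1
      exact mul_right_cancel₀ (scal_ne_zero hθ (hcl _ _)) h1.symm
    have h1 : om θ r s ^ p ^ k = 1 := by rw [← hTr]; exact hrH _ hTH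
    obtain ⟨e, he⟩ := hR.exists_card_eq
    have h2 : om θ r s ^ q ^ e = 1 := he ▸ hrootR r s
    have h3 := pow_gcd_eq_one.2 ⟨h1, h2⟩
    rwa [Nat.Coprime.pow k e ((Nat.coprime_primes hp hq).2 hqp.symm), pow_one] at h3
  -- a constituent on the fixed part
  haveI := Fintype.ofFinite H
  obtain ⟨ψ, hψ, hψne⟩ := CharTheory.Ito.exists_constituent
    (isCharacter_restrict H (isCharacter_of_isIrr hθ)) (by simpa using irr_one_ne_zero hθ)
  have hclH : ∀ a b : H, ⁅a, b⁆ ∈ Subgroup.center H := fun a b => by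
    rw [Subgroup.mem_center_iff]
    intro c
    exact Subtype.ext (Subgroup.mem_center_iff.1 (hcl a b) c)
  have hscal : ∀ a b : H, om ψ a b = om θ a b := fun a b => by
    have hc : scal θ ((⁅a, b⁆ : H) : R) * Cfsg.classInner (fun h : H => θ h) ψ =
        scal ψ ⁅a, b⁆ * Cfsg.classInner (fun h : H => θ h) ψ := by
      set c : H := ⁅a, b⁆
      have e1 : ∀ x : H, θ ((x * c : H) : R) * conj (ψ (x * c)) =
          scal θ (c : R) * conj (scal ψ c) * (θ x * conj (ψ x)) := fun x => by
        rw [Subgroup.coe_mul, mul_center hθ (show (c : R) ∈ Subgroup.center R from hcl a b),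
          mul_center hψ (hclH a b), map_mul]
        ring
      have e2 : Cfsg.classInner (fun h : H => θ h) ψ =
          scal θ (c : R) * conj (scal ψ c) * Cfsg.classInner (fun h : H => θ h) ψ := by
        conv_lhs => rw [classInner_def]
        rw [classInner_def, mul_left_comm]
        congr 1
        rw [Finset.mul_sum, ← (Fintype.sum_equiv (Equiv.mulRight c)
          (fun x => θ ((x * c : H) : R) * conj (ψ (x * c)))
          (fun x => θ (x : R) * conj (ψ x)) fun x => rfl)]
        exact Finset.sum_congr rfl fun x _ => e1 x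
      have e3 : scal θ (c : R) * conj (scal ψ c) = 1 :=
        mul_right_cancel₀ hψne (e2.symm.trans (one_mul _).symm)
      have e4 : scal ψ c * conj (scal ψ c) = 1 := by
        have hs : conj (scal ψ c) = scal ψ c⁻¹ := by
          rw [scal, map_div₀, ← char_inv (isCharacter_of_isIrr hψ), scal,
            ← char_inv (isCharacter_of_isIrr hψ), inv_one]
        rw [hs, ← scal_mul hψ (inv_mem (hclH a b)), mul_inv_cancel, scal_one hψ]
      have hne : conj (scal ψ c) ≠ 0 := right_ne_zero_of_mul_eq_one e4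
      rw [mul_right_cancel₀ hne (e3.trans e4.symm)]
    exact (mul_right_cancel₀ hψne hc).symm
  have hradψ : ∀ a : H, a ∈ rad hψ hclH ↔ (a : R) ∈ Z := fun a => by
    refine ⟨fun h => hperp a a.2 fun b hb => ?_, fun h b => ?_⟩
    · exact (hscal a ⟨b, hb⟩).symm.trans (h ⟨b, hb⟩)
    · exact (hscal a b).trans (h b)
  have hZcard : Nat.card (rad hψ hclH) = Nat.card Z := Nat.card_congr
    { toFun := fun a => ⟨a.1.1, (hradψ a.1).1 a.2⟩
      invFun := fun z => ⟨⟨z.1, hZH z.2⟩, (hradψ _).2 z.2⟩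
      left_inv := fun _ => rfl
      right_inv := fun _ => rfl }
  -- degrees
  set dθ := Cfsg.charDegree θ
  set dψ := Cfsg.charDegree ψ
  have hdθ : (dθ : ℂ) = θ 1 := Degrees.charDegree_cast ⟨θ, hθ⟩
  have hdψ : (dψ : ℂ) = ψ 1 := Degrees.charDegree_cast ⟨ψ, hψ⟩
  have hR' : Nat.card R = Nat.card Z * (dθ * dθ) := by
    apply Nat.cast_injective (R := ℂ)
    push_cast
    rw [hdθ, card_eq hθ hcl]
  have hH' : Nat.card H = Nat.card Z * (dψ * dψ) := by
    apply Nat.cast_injective (R := ℂ)
    push_cast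
    rw [hdψ, card_eq hψ hclH, hZcard]
  -- the fixed cosets
  have hidx : Z.index = dθ * dθ :=
    Nat.eq_of_mul_eq_mul_left (Nat.card_pos (α := Z)) (by rw [Subgroup.card_mul_index, hR'])
  let σbar : MulAut (R ⧸ Z) := QuotientGroup.congr Z Z σ (by
    refine Subgroup.eq_of_le_of_card_ge (Subgroup.map_le_iff_le_comap.2 hσZ) ?_
    exact (Nat.card_image_of_injective σ.injective (Z : Set R)).ge)
  have hbar : ∀ (i : ℕ) (r : R),
      (σbar ^ i) (QuotientGroup.mk r) = QuotientGroup.mk ((σ ^ i) r) := fun i r => by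
    induction i with
    | zero => rfl
    | succ i ih =>
      rw [pow_succ', MulAut.mul_apply, ih, pow_succ', MulAut.mul_apply]
      exact QuotientGroup.congr_mk Z Z σ _ _
  have hbar1 : ∀ r : R, σbar (QuotientGroup.mk r) = QuotientGroup.mk (σ r) := fun r => by
    simpa using hbar 1 r
  have hmod := card_fixed_modEq hp (MulAut.toPerm (R ⧸ Z) σbar) (k := k) (by
    rw [← map_pow, show σbar ^ p ^ k = 1 from MulEquiv.ext fun v => by
      obtain ⟨r, rfl⟩ := QuotientGroup.mk_surjective v
      rw [hbar, hσ]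
      rfl, map_one])
  have hfixcard : Nat.card {v : R ⧸ Z // MulAut.toPerm (R ⧸ Z) σbar v = v} = dψ * dψ := by
    refine Nat.eq_of_mul_eq_mul_left (Nat.card_pos (α := Z)) ?_
    rw [← hH', ← Nat.card_prod]
    refine (Nat.card_congr ((Equiv.subtypeEquivRight fun r => ?_).trans
      (QuotientGroup.preimageMkEquivSubgroupProdSet Z
        {v : R ⧸ Z | MulAut.toPerm (R ⧸ Z) σbar v = v}))).symm
    show r⁻¹ * σ r ∈ Z ↔ σbar (QuotientGroup.mk r) = QuotientGroup.mk r
    rw [hbar1, eq_comm, QuotientGroup.eq]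
  rw [hfixcard, ← Subgroup.index_eq_card, hidx] at hmod
  obtain ⟨e, he⟩ := hR.exists_card_eq
  obtain ⟨a, -, ha⟩ := (Nat.dvd_prime_pow hq).1
    (he ▸ Degrees.charDegree_dvd_card ⟨θ, hθ⟩ : dθ ∣ q ^ e)
  obtain ⟨b, -, hb⟩ := (Nat.dvd_prime_pow hq).1
    ((he ▸ (Degrees.charDegree_dvd_card ⟨ψ, hψ⟩).trans H.card_subgroup_dvd_card) : dψ ∣ q ^ e)
  have hlt : b < a := by
    by_contra hle
    refine hHtop (Subgroup.eq_top_of_le_card H ?_)
    rw [hR', hH', ha, hb]
    have hab : q ^ a ≤ q ^ b := Nat.pow_le_pow_right hq.pos (not_lt.1 hle)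
    exact Nat.mul_le_mul_left _ (Nat.mul_le_mul hab hab)
  rw [ha, hb, ← pow_add, ← pow_add] at hmod
  have h1 : q ^ (2 * (a - b)) ≡ 1 [MOD p] := by
    refine Nat.ModEq.cancel_left_of_coprime (c := q ^ (b + b)) ?_ ?_
    · exact Nat.Coprime.pow_right _ ((Nat.coprime_primes hp hq).2 hqp.symm)
    · rw [← pow_add, show b + b + 2 * (a - b) = a + a by omega, mul_one]
      exact hmod
  refine Or.inr ⟨q, a - b, hq, by omega, ha ▸ pow_dvd_pow q (Nat.sub_le _ _), ?_⟩
  have h2 : (p : ℤ) ∣ ((q ^ (a - b) : ℕ) : ℤ) ^ 2 - 1 := by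
    have := (Int.natCast_modEq_iff.2 h1).symm.dvd
    push_cast at this ⊢
    rwa [← pow_mul, mul_comm]
  rw [show ((q ^ (a - b) : ℕ) : ℤ) ^ 2 - 1 =
    (((q ^ (a - b) : ℕ) : ℤ) + 1) * (((q ^ (a - b) : ℕ) : ℤ) - 1) by ring] at h2
  rcases (Nat.prime_iff_prime_int.1 hp).dvd_or_dvd h2 with h | h
  · exact Or.inl (Int.modEq_iff_dvd.2 (by simpa [add_comm] using h)).symm
  · exact Or.inr (Int.modEq_iff_dvd.2 h).symm

end Cfsg.Agent.BlocksChars.Winter
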