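import Mathlib
import Cfsg.Agent.Lib.CharTheory.Clifford
import Cfsg.Agent.Lib.CharTheory.Ito
import Cfsg.Agent.Lib.Characters.Kernel
import Cfsg.Agent.Solvable.Fitting
import Cfsg.Agent.BlocksChars.Winter.ClassTwo

/-!
# Faithful irreducible characters of solvable groups with a nonnormal Sylow subgroup

If some `p`-element moves an abelian normal subgroup, the orbit of linear constituents gives the
divisor; otherwise a minimal moved normal subgroup of prime power order has class two and a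
constituent on it gives it.
-/

set_option linter.style.haveILetI false
set_option linter.unusedSectionVars false

namespace Cfsg.Agent.BlocksChars.Winter

open Cfsg.Agent.Characters Cfsg.Agent.CharTheory
open scoped ComplexConjugate commutatorElement

universe u

variable {G : Type u} [Group G] [Finite G] {χ : Cfsg.IrrCharacter G}
  (N : Subgroup G) [N.Normal]

/-- The inertia subgroup. -/
def inertia (θ : N → ℂ) : Subgroup G where
  carrier := {g | Clifford.conjBy N g θ = θ}
  one_mem' := Clifford.conjBy_one N θ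
  mul_mem' := fun {a b} ha hb => by
    show Clifford.conjBy N (a * b) θ = θ
    rw [← Clifford.conjBy_conjBy, show Clifford.conjBy N a θ = θ from ha]
    exact hb
  inv_mem' := fun {a} ha => by
    show Clifford.conjBy N a⁻¹ θ = θ
    conv_lhs => rw [← show Clifford.conjBy N a θ = θ from ha]
    rw [Clifford.conjBy_conjBy, mul_inv_cancel, Clifford.conjBy_one]

variable [Fintype N] {θ : N → ℂ} (hθ : Cfsg.IsIrrCharacter N θ)
  (h1 : Cfsg.classInner (fun n : N => (χ : G → ℂ) n) θ ≠ 0)

include hθ h1 in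
/-- The degree of a constituent and the length of its orbit divide the degree. -/
theorem dvd_degree :
    (inertia N θ).index * Cfsg.charDegree θ ∣ Cfsg.charDegree (χ : G → ℂ) := by
  haveI := Fintype.ofFinite G
  obtain ⟨e, he⟩ := classInner_char_nat (isCharacter_restrict N (irr_isCharacter χ))
    (isCharacter_of_isIrr hθ)
  have h := Clifford.card_mul_degree N χ.2 hθ h1 (inertia N θ) fun g => Iff.rfl
  rw [he, ← Degrees.charDegree_cast χ,
    ← show (Cfsg.charDegree θ : ℂ) = θ 1 from Degrees.charDegree_cast ⟨θ, hθ⟩,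
    ← (inertia N θ).card_mul_index] at h
  have h' : Nat.card (inertia N θ) * Cfsg.charDegree (χ : G → ℂ) =
      Nat.card (inertia N θ) * ((inertia N θ).index * Cfsg.charDegree θ * e) := by
    apply Nat.cast_injective (R := ℂ)
    push_cast at h ⊢
    linear_combination h
  exact ⟨e, Nat.eq_of_mul_eq_mul_left Nat.card_pos h'⟩

include hθ h1 in
/-- An element at which all conjugates of a constituent take their degree is trivial. -/
theorem eq_one_of_conj_trivial
    (hfaith : ∀ g : G, (χ : G → ℂ) g = (χ : G → ℂ) 1 → g = 1) {c : N}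
    (hc : ∀ g : G, Clifford.conjBy N g θ c = θ 1) : (c : G) = 1 := by
  haveI := Fintype.ofFinite G
  have h := Clifford.card_smul_restrict N χ.2 hθ h1 (inertia N θ) fun g => Iff.rfl
  refine hfaith _ ?_
  have hc' := congrFun h c
  have h1' := congrFun h 1
  simp only [Pi.smul_apply, Finset.sum_apply, smul_eq_mul, hc, Clifford.conjBy_at_one,
    OneMemClass.coe_one] at hc' h1'
  exact mul_left_cancel₀ (Nat.cast_ne_zero.2 (Nat.card_pos (α := inertia N θ)).ne')
    (hc'.trans h1'.symm)

theorem irr_of_constituent [Fintype G] (χ : Cfsg.IrrCharacter G) :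
    ∃ θ : N → ℂ, Cfsg.IsIrrCharacter N θ ∧
      Cfsg.classInner (fun n : N => (χ : G → ℂ) n) θ ≠ 0 :=
  Ito.exists_constituent (isCharacter_restrict N (irr_isCharacter χ))
    (by simpa using irr_one_ne_zero χ.2)

variable {p : ℕ}

omit [Fintype N] in
/-- A `p`-element moving an abelian normal subgroup. -/
theorem good_of_moved_abelian (hp : p.Prime) [Group.IsSolvable G]
    (hfaith : ∀ g : G, (χ : G → ℂ) g = (χ : G → ℂ) 1 → g = 1)
    (hA : ∀ a ∈ N, ∀ b ∈ N, a * b = b * a) {x : G} {k : ℕ} (hx : x ^ p ^ k = 1) {a : G}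
    (ha : a ∈ N) (hmove : x * a * x⁻¹ ≠ a) : Good p (Cfsg.charDegree (χ : G → ℂ)) := by
  haveI := Fintype.ofFinite G
  haveI := Fintype.ofFinite N
  obtain ⟨θ, hθ, h1⟩ := irr_of_constituent N χ
  refine (index_good hp (inertia N θ) x k hx fun hcore => hmove ?_).mono
    ((dvd_mul_right _ _).trans (dvd_degree N hθ h1))
  have hθ1 : θ 1 = 1 :=
    irr_degree_one_of_comm (fun a b => Subtype.ext (hA a a.2 b b.2)) hθ
  set μ := linearOfDegreeOne (isCharacter_of_isIrr hθ) hθ1
  have hc := eq_one_of_conj_trivial N hθ h1 hfaith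
    (c := ⟨x * a * x⁻¹, Subgroup.Normal.conj_mem ‹_› a ha x⟩ * (⟨a, ha⟩ : N)⁻¹) fun g => by
      rw [Clifford.conjBy_eq_comp, Function.comp_apply, map_mul, map_inv,
        ← linearOfDegreeOne_apply (isCharacter_of_isIrr hθ) hθ1, map_mul, map_inv, Units.val_mul]
      have h2 : θ ((MulAut.conjNormal g : N ≃* N).toMonoidHom
          ⟨x * a * x⁻¹, Subgroup.Normal.conj_mem ‹_› a ha x⟩) =
          θ ((MulAut.conjNormal g : N ≃* N).toMonoidHom ⟨a, ha⟩) := by
        have h3 := congrFun (hcore g : Clifford.conjBy N (g * x * g⁻¹) θ = θ)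
          ((MulAut.conjNormal g : N ≃* N).toMonoidHom ⟨a, ha⟩)
        rw [← h3, Clifford.conjBy_apply]
        congr 1
        exact Subtype.ext (by simp [mul_assoc])
      rw [linearOfDegreeOne_apply, h2, ← linearOfDegreeOne_apply (isCharacter_of_isIrr hθ) hθ1,
        Units.mul_inv, hθ1]
  exact mul_inv_eq_one.1 hc

omit [Fintype N] in
/-- An element of prime power order shifting by a fixed element of coprime order fixes. -/
theorem fix_of_shift {x r c : G} {k : ℕ} (hx : x ^ p ^ k = 1) (hshift : x * r * x⁻¹ = r * c)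
    (hc : x * c * x⁻¹ = c) (hcop : (orderOf c).Coprime p) : c = 1 := by
  have h : ∀ i : ℕ, x ^ i * r * (x ^ i)⁻¹ = r * c ^ i := fun i => by
    induction i with
    | zero => simp
    | succ i ih =>
      calc x ^ (i + 1) * r * (x ^ (i + 1))⁻¹ = x * (x ^ i * r * (x ^ i)⁻¹) * x⁻¹ := by
            rw [pow_succ']; group
        _ = x * r * x⁻¹ * (x * c ^ i * x⁻¹) := by rw [ih]; group
        _ = r * c * c ^ i := by rw [hshift, ← conj_pow, hc]
        _ = _ := by rw [mul_assoc, ← pow_succ']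
  have h1 := h (p ^ k)
  rw [hx, one_mul, inv_one, mul_one, eq_comm, mul_eq_left] at h1
  rw [← orderOf_eq_one_iff]
  exact Nat.eq_one_of_dvd_coprimes (hcop.pow_right k) (dvd_refl _) (orderOf_dvd_of_pow_eq_one h1)

/-- The group elements of `p`-power order. -/
def IsPEl (p : ℕ) (x : G) : Prop := ∃ k, x ^ p ^ k = 1

/-- The main statement. -/
theorem good_degree (hp : p.Prime) [Group.IsSolvable G] (χ : Cfsg.IrrCharacter G)
    (hfaith : ∀ g : G, (χ : G → ℂ) g = (χ : G → ℂ) 1 → g = 1) (P : Sylow p G)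
    (hP : ¬ (P : Subgroup G).Normal) : Good p (Cfsg.charDegree (χ : G → ℂ)) := by
  classical
  haveI := Fact.mk hp
  haveI := Fintype.ofFinite G
  by_contra hbad
  have hab : ∀ A : Subgroup G, A.Normal → (∀ a ∈ A, ∀ b ∈ A, a * b = b * a) →
      ∀ x : G, IsPEl p x → ∀ a ∈ A, x * a * x⁻¹ = a := fun A hA hcomm x hx a ha =>
    by_contra fun hm => by
      haveI := hA
      obtain ⟨k, hk⟩ := hx
      exact hbad (good_of_moved_abelian A hp hfaith hcomm hk ha hm)
  -- a moved normal subgroup of prime power order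
  set F := Cfsg.fittingSubgroup G
  obtain ⟨x, hxP, hxF⟩ : ∃ x, x ∈ P ∧ x ∉ F := by
    by_contra hcon
    push Not at hcon
    have hPF : (P : Subgroup G) ≤ F := hcon
    set Q := P.subtype hPF
    haveI hQn : (Q : Subgroup F).Normal :=
      Q.normal_of_normalizerCondition Group.normalizerCondition_of_isNilpotent
    haveI : (Q : Subgroup F).Characteristic := Q.characteristic_of_normal hQn
    have hn : ((Q : Subgroup F).map F.subtype).Normal :=
      ConjAct.normal_of_characteristic_of_normal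
    rw [Sylow.coe_subtype, Subgroup.subgroupOf_map_subtype, inf_eq_left.2 hPF] at hn
    exact hP hn
  have hxp : IsPEl p x := by
    obtain ⟨k, hk⟩ := P.isPGroup' ⟨x, hxP⟩
    exact ⟨k, congrArg Subtype.val hk⟩
  obtain ⟨q, hq, Q, hQn, hQq, hQmove⟩ : ∃ q : ℕ, q.Prime ∧ ∃ Q : Subgroup G, Q.Normal ∧
      IsPGroup q Q ∧ ∃ r ∈ Q, x * r * x⁻¹ ≠ r := by
    by_contra hcon
    push Not at hcon
    refine hxF (Solvable.Fitting.centralizer_fitting_le ?_)
    set Cx := (Subgroup.centralizer ({x} : Set G)).subgroupOf F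
    suffices Cx = ⊤ by
      rw [Subgroup.mem_centralizer_iff]
      intro f hf
      exact Subgroup.mem_centralizer_singleton_iff.1
        (this.symm ▸ Subgroup.mem_top (⟨f, hf⟩ : F) : (⟨f, hf⟩ : F) ∈ Cx)
    refine Subgroup.eq_top_of_le_card Cx (Nat.le_of_dvd Nat.card_pos ?_)
    refine (Nat.dvd_iff_prime_pow_dvd_dvd _ _).2 fun q j hq hqj => ?_
    haveI := Fact.mk hq
    obtain ⟨Q⟩ : Nonempty (Sylow q F) := inferInstance
    haveI hQn : (Q : Subgroup F).Normal :=
      Q.normal_of_normalizerCondition Group.normalizerCondition_of_isNilpotent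
    haveI : (Q : Subgroup F).Characteristic := Q.characteristic_of_normal hQn
    have hfix := hcon q hq ((Q : Subgroup F).map F.subtype)
      ConjAct.normal_of_characteristic_of_normal (Q.isPGroup'.map F.subtype)
    have hQcard : q ^ j ∣ Nat.card (Q : Subgroup F) := by
      rw [Q.card_eq_multiplicity]
      exact pow_dvd_pow q ((hq.pow_dvd_iff_le_factorization Nat.card_pos.ne').1 hqj)
    refine hQcard.trans (Subgroup.card_dvd_of_le fun f hf => ?_)
    exact Subgroup.mem_centralizer_singleton_iff.2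
      (mul_inv_eq_iff_eq_mul.1 (hfix f (Subgroup.mem_map_of_mem F.subtype hf))).symm
  haveI := Fact.mk hq
  obtain ⟨R, -, ⟨hRn, hRq, y, hy, r₁, hr₁, hymove⟩, hmin⟩ := Set.Finite.exists_le_minimal
    (Set.toFinite {R : Subgroup G | R.Normal ∧ IsPGroup q R ∧
      ∃ y, IsPEl p y ∧ ∃ r ∈ R, y * r * y⁻¹ ≠ r}) (a := Q) ⟨hQn, hQq, x, hxp, hQmove⟩
  haveI := hRn
  haveI := Fintype.ofFinite R
  have hsmall : ∀ R' : Subgroup G, R'.Normal → R' ≤ R → R' ≠ R →
      ∀ z, IsPEl p z → ∀ r ∈ R', z * r * z⁻¹ = r := fun R' h1 h2 h3 z hz r hr =>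
    by_contra fun hm =>
      h3 (le_antisymm h2 (hmin ⟨h1, hRq.to_le h2, z, hz, r, hr, hm⟩ h2))
  obtain ⟨θ, hθ, h1⟩ := irr_of_constituent R χ
  rcases eq_or_ne q p with rfl | hqp
  · -- a nonabelian normal `p`-subgroup
    obtain ⟨e, he⟩ := hRq.exists_card_eq
    obtain ⟨i, -, hi⟩ := (Nat.dvd_prime_pow hp).1
      (he ▸ Degrees.charDegree_dvd_card ⟨θ, hθ⟩ : Cfsg.charDegree θ ∣ q ^ e)
    rcases i with _ | i
    · rw [pow_zero] at hi
      refine hymove (hab R hRn (fun a ha b hb => ?_) y hy r₁ hr₁)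
      have hθ1 : θ 1 = 1 := by
        rw [← show (Cfsg.charDegree θ : ℂ) = θ 1 from Degrees.charDegree_cast ⟨θ, hθ⟩, hi,
          Nat.cast_one]
      have hc := eq_one_of_conj_trivial R hθ h1 hfaith
        (c := ⁅(⟨a, ha⟩ : R), (⟨b, hb⟩ : R)⁆) fun g => by
          rw [Clifford.conjBy_eq_comp, Function.comp_apply, map_commutatorElement,
            ← linearOfDegreeOne_apply (isCharacter_of_isIrr hθ) hθ1, map_commutatorElement,
            commutatorElement_eq_one_iff_mul_comm.2 (mul_comm _ _), Units.val_one, hθ1]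
      exact commutatorElement_eq_one_iff_mul_comm.1 hc
    · exact hbad (Or.inl ((dvd_pow_self q (Nat.succ_ne_zero i)).trans
        (hi ▸ (dvd_mul_left _ _).trans (dvd_degree R hθ h1))))
  have hcop : ∀ c ∈ R, (orderOf c).Coprime p := fun c hc => by
    obtain ⟨i, hi⟩ := IsPGroup.iff_orderOf.1 hRq ⟨c, hc⟩
    rw [Subgroup.orderOf_mk] at hi
    rw [hi]
    exact Nat.Coprime.pow_left i ((Nat.coprime_primes hq hp).2 hqp)
  -- the derived subgroup is central
  have hRne : R ≠ ⊥ := fun h => hymove (by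
    rw [Subgroup.mem_bot.1 (h ▸ hr₁ : r₁ ∈ (⊥ : Subgroup G)), mul_one, mul_inv_cancel])
  have hderlt : ⁅R, R⁆ < R := Coprime.commutator_lt_of_isSolvable inferInstance hRne
  have hderfix := hsmall ⁅R, R⁆ inferInstance hderlt.le hderlt.ne
  set Cc := R ⊓ Subgroup.centralizer ((⁅R, R⁆ : Subgroup G) : Set G)
  have hshiftC : ∀ z, IsPEl p z → ∀ r ∈ R, r⁻¹ * (z * r * z⁻¹) ∈ Cc := by
    intro z hz r hr
    refine ⟨R.mul_mem (R.inv_mem hr) (hRn.conj_mem r hr z),
      Subgroup.mem_centralizer_iff.2 fun d hd => ?_⟩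
    have e1 := hderfix z hz d hd
    have e2 := hderfix z hz (r * d * r⁻¹) ((inferInstance : (⁅R, R⁆).Normal).conj_mem d hd r)
    calc d * (r⁻¹ * (z * r * z⁻¹)) = r⁻¹ * (r * d * r⁻¹) * (z * r * z⁻¹) := by group
      _ = r⁻¹ * (z * (r * d * r⁻¹) * z⁻¹) * (z * r * z⁻¹) := by rw [e2]
      _ = r⁻¹ * (z * r * z⁻¹) * (z * d * z⁻¹) := by group
      _ = r⁻¹ * (z * r * z⁻¹) * d := by rw [e1]
  have hCR : Cc = R := by
    by_contra hne
    refine hymove ?_
    obtain ⟨k, hk⟩ := hy
    have hmem := hshiftC y ⟨k, hk⟩ r₁ hr₁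
    have := fix_of_shift hk (c := r₁⁻¹ * (y * r₁ * y⁻¹)) (r := r₁) (by group)
      (hsmall Cc inferInstance inf_le_left hne y ⟨k, hk⟩ _ hmem) (hcop _ hmem.1)
    rwa [inv_mul_eq_one, eq_comm] at this
  have hcl : ∀ r s : R, ⁅r, s⁆ ∈ Subgroup.center R := fun r s => by
    refine Subgroup.mem_center_iff.2 fun t => Subtype.ext ?_
    have ht : (t : G) ∈ Cc := hCR.symm.le t.2
    exact (Subgroup.mem_centralizer_iff.1 ht.2 _
      (Subgroup.commutator_mem_commutator r.2 s.2)).symm
  -- an element moved modulo the radical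
  obtain ⟨k, hk⟩ := hy
  set σ : MulAut R := MulAut.conjNormal y
  set c : R := ⟨r₁, hr₁⟩⁻¹ * σ ⟨r₁, hr₁⟩
  have hcval : (c : G) = r₁⁻¹ * (y * r₁ * y⁻¹) := by simp [c, σ]
  have hcnot : c ∉ Subgroup.center R := fun hc => by
    have hfix : y * (c : G) * y⁻¹ = c := hab ((Subgroup.center R).map R.subtype)
      ConjAct.normal_of_characteristic_of_normal (fun a ha b hb => by
        obtain ⟨a, ha, rfl⟩ := ha
        obtain ⟨b, hb, rfl⟩ := hb
        exact congrArg Subtype.val (Subgroup.mem_center_iff.1 hb a)) y ⟨k, hk⟩ _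
      (Subgroup.mem_map_of_mem _ hc)
    refine hymove ?_
    have := fix_of_shift hk (c := (c : G)) (r := r₁) (by rw [hcval]; group) hfix (hcop _ c.2)
    rw [hcval, inv_mul_eq_one, eq_comm] at this
    exact this
  rw [Subgroup.mem_center_iff] at hcnot
  push Not at hcnot
  obtain ⟨s, hs⟩ := hcnot
  have hne : ((⁅c, s⁆ : R) : G) ≠ 1 := fun h => hs
    (commutatorElement_eq_one_iff_mul_comm.1 (Subtype.ext h)).symm
  obtain ⟨g, hg⟩ : ∃ g : G, Clifford.conjBy R g θ ⁅c, s⁆ ≠ θ 1 := by
    by_contra hall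
    push Not at hall
    exact hne (eq_one_of_conj_trivial R hθ h1 hfaith hall)
  have hφ := Clifford.isIrrCharacter_conjBy R g hθ
  have hφ1 : Cfsg.classInner (fun n : R => (χ : G → ℂ) n) (Clifford.conjBy R g θ) ≠ 0 := by
    rwa [Clifford.classInner_restrict_conjBy R (irr_isClassFunction χ)]
  refine hbad ((degree_good hφ hcl hp hq hqp hRq σ (k := k)
    (by rw [← map_pow, hk, map_one]) (fun r s => Subtype.ext ?_) (r₀ := ⟨r₁, hr₁⟩) ?_).mono
    ((dvd_mul_left _ _).trans (dvd_degree R hφ hφ1)))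
  · rw [MulAut.conjNormal_apply]
    exact hderfix y ⟨k, hk⟩ _ (Subgroup.commutator_mem_commutator r.2 s.2)
  · intro hrad
    refine hg ?_
    have h := (mem_rad hφ hcl).1 hrad s
    rw [om, scal, div_eq_one_iff_eq (irr_one_ne_zero hφ), Clifford.conjBy_at_one] at h
    exact h

end Cfsg.Agent.BlocksChars.Winter
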